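import Mathlib
import Cfsg.Prelude.Def_Sporadic_a

set_option autoImplicit false

namespace Cfsg.Agent.Lib.BasicSteiner.Count

open Finset

variable {α : Type*} [Fintype α] [DecidableEq α]

/-- The finset of blocks of a set system. -/
noncomputable def blocks (B : Set (Finset α)) : Finset (Finset α) := by
  classical exact Finset.univ.filter (fun c => c ∈ B)

theorem mem_blocks {B : Set (Finset α)} {c : Finset α} : c ∈ blocks B ↔ c ∈ B := by
  classical simp [blocks]

/-- The number of `t`-sets between `s` and `b`. -/
theorem card_between {s b : Finset α} (hsb : s ⊆ b) (t : ℕ) (hst : s.card ≤ t) :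
    (b.powersetCard t |>.filter (fun T => s ⊆ T)).card = (b.card - s.card).choose (t - s.card) := by
  classical
  have : (b.powersetCard t |>.filter (fun T => s ⊆ T)) =
      ((b \ s).powersetCard (t - s.card)).image (fun U => s ∪ U) := by
    ext T
    simp only [mem_filter, mem_powersetCard, mem_image]
    constructor
    · rintro ⟨⟨hTb, hTc⟩, hsT⟩
      refine ⟨T \ s, ⟨sdiff_subset_sdiff hTb (le_refl _), ?_⟩, ?_⟩
      · rw [card_sdiff_of_subset hsT, hTc]
      · exact union_sdiff_of_subset hsT
    · rintro ⟨U, ⟨hUb, hUc⟩, rfl⟩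
      have hdisj : Disjoint s U := by
        refine disjoint_left.mpr fun x hxs hxU => ?_
        have := hUb hxU
        simp only [mem_sdiff] at this
        exact this.2 hxs
      refine ⟨⟨union_subset hsb (hUb.trans sdiff_subset), ?_⟩, subset_union_left⟩
      rw [card_union_of_disjoint hdisj, hUc]
      omega
  rw [this, card_image_of_injOn, card_powersetCard, card_sdiff_of_subset hsb]
  intro U hU V hV hUV
  rw [mem_coe, mem_powersetCard] at hU hV
  have hdU : Disjoint s U := by
    refine disjoint_left.mpr fun x hxs hxU => ?_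
    have := hU.1 hxU
    simp only [mem_sdiff] at this
    exact this.2 hxs
  have hdV : Disjoint s V := by
    refine disjoint_left.mpr fun x hxs hxU => ?_
    have := hV.1 hxU
    simp only [mem_sdiff] at this
    exact this.2 hxs
  have h1 : (s ∪ U) \ s = U := union_sdiff_cancel_left hdU
  have h2 : (s ∪ V) \ s = V := union_sdiff_cancel_left hdV
  simp only at hUV
  rw [← h1, ← h2, hUV]

/-- The number of blocks through a `j`-set `s`, `j ≤ t`: the count `λ_j` satisfies
`λ_j * C(k-j, t-j) = C(n-j, t-j)`. -/
theorem card_blocks_through {t k : ℕ} {B : Set (Finset α)} (hB : Cfsg.IsSteinerSystem t k B)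
    (s : Finset α) (hst : s.card ≤ t) :
    ((blocks B).filter (fun c => s ⊆ c)).card * (k - s.card).choose (t - s.card) =
      (Fintype.card α - s.card).choose (t - s.card) := by
  classical
  -- double count pairs (T, c)
  have h1 : (((Finset.univ : Finset α).powersetCard t).filter (fun T => s ⊆ T)).card =
      (Fintype.card α - s.card).choose (t - s.card) := by
    have := card_between (s := s) (b := Finset.univ) (subset_univ _) t hst
    simpa [card_univ] using this
  rw [← h1]
  have hmain := Finset.sum_card_bipartiteAbove_eq_sum_card_bipartiteBelow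
    (s := (blocks B).filter (fun c => s ⊆ c))
    (t := ((Finset.univ : Finset α).powersetCard t).filter (fun T => s ⊆ T))
    (fun c T => T ⊆ c)
  have hL : ∀ c ∈ (blocks B).filter (fun c => s ⊆ c),
      (Finset.bipartiteAbove (fun c T => T ⊆ c)
        (((Finset.univ : Finset α).powersetCard t).filter (fun T => s ⊆ T)) c).card =
        (k - s.card).choose (t - s.card) := by
    intro c hc
    rw [mem_filter, mem_blocks] at hc
    have : Finset.bipartiteAbove (fun c T => T ⊆ c)
        (((Finset.univ : Finset α).powersetCard t).filter (fun T => s ⊆ T)) c =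
        (c.powersetCard t).filter (fun T => s ⊆ T) := by
      ext T
      simp only [Finset.mem_bipartiteAbove, mem_filter, mem_powersetCard, subset_univ, true_and]
      tauto
    rw [this, card_between hc.2 t hst, hB.1 c hc.1]
  have hR : ∀ T ∈ ((Finset.univ : Finset α).powersetCard t).filter (fun T => s ⊆ T),
      (Finset.bipartiteBelow (fun c T => T ⊆ c) ((blocks B).filter (fun c => s ⊆ c)) T).card = 1 := by
    intro T hT
    rw [mem_filter, mem_powersetCard] at hT
    obtain ⟨c, ⟨hcB, hTc⟩, huniq⟩ := hB.2 T hT.1.2
    rw [card_eq_one]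
    refine ⟨c, ?_⟩
    ext d
    simp only [Finset.mem_bipartiteBelow, mem_filter, mem_blocks, mem_singleton]
    constructor
    · rintro ⟨⟨hd, -⟩, hTd⟩
      exact huniq d ⟨hd, hTd⟩
    · rintro rfl
      exact ⟨⟨hcB, hT.2.trans hTc⟩, hTc⟩
  rw [sum_congr rfl hL, sum_congr rfl hR] at hmain
  simpa [smul_eq_mul, sum_const] using hmain

/-- `∑_{c ∈ B} C(|c ∩ b|, j) = ∑_{s ⊆ b, |s| = j} #{c ∈ B : s ⊆ c}`. -/
theorem sum_choose_inter (B : Set (Finset α)) (b : Finset α) (j : ℕ) :
    ∑ c ∈ blocks B, (c ∩ b).card.choose j =
      ∑ s ∈ b.powersetCard j, ((blocks B).filter (fun c => s ⊆ c)).card := by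
  classical
  have h1 : ∀ c : Finset α, (c ∩ b).card.choose j =
      ∑ s ∈ b.powersetCard j, if s ⊆ c then 1 else 0 := by
    intro c
    rw [← card_powersetCard, ← card_filter]
    congr 1
    ext s
    simp only [mem_powersetCard, mem_filter, subset_inter_iff]
    tauto
  simp_rw [h1, card_filter]
  rw [sum_comm]

/-- The key identity: for a block-count constant `lam` through `j`-sets,
`∑_{c ∈ B} C(|c ∩ b|, j) = C(|b|, j) * lam`. -/
theorem sum_choose_inter_eq {t k : ℕ} {B : Set (Finset α)} (hB : Cfsg.IsSteinerSystem t k B)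
    (b : Finset α) (j lam : ℕ) (hj : j ≤ t) (hpos : 0 < (k - j).choose (t - j))
    (hlam : lam * (k - j).choose (t - j) = (Fintype.card α - j).choose (t - j)) :
    ∑ c ∈ blocks B, (c ∩ b).card.choose j = b.card.choose j * lam := by
  classical
  rw [sum_choose_inter]
  have : ∀ s ∈ b.powersetCard j, ((blocks B).filter (fun c => s ⊆ c)).card = lam := by
    intro s hs
    have hsc : s.card = j := (mem_powersetCard.mp hs).2
    have := card_blocks_through hB s (by omega)
    rw [hsc] at this
    rw [← hlam] at this
    exact Nat.eq_of_mul_eq_mul_right hpos this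
  rw [sum_congr rfl this, sum_const, card_powersetCard, smul_eq_mul]

/-- Blocks meeting `b` in at least `t` points equal `b`. -/
theorem eq_of_card_inter_ge {t k : ℕ} {B : Set (Finset α)} (hB : Cfsg.IsSteinerSystem t k B)
    {b c : Finset α} (hb : b ∈ B) (hc : c ∈ B) (h : t ≤ (b ∩ c).card) : b = c := by
  classical
  obtain ⟨s, hs, hsc⟩ := exists_subset_card_eq h
  obtain ⟨d, _, huniq⟩ := hB.2 s hsc
  have h1 := huniq b ⟨hb, hs.trans inter_subset_left⟩
  have h2 := huniq c ⟨hc, hs.trans inter_subset_right⟩
  exact h1.trans h2.symm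

/-- Sum a function of the intersection size, over the blocks, as a sum over sizes. -/
theorem sum_choose_fiberwise (B : Set (Finset α)) (b : Finset α) (j K : ℕ)
    (hK : ∀ c ∈ blocks B, (c ∩ b).card < K) :
    ∑ c ∈ blocks B, (c ∩ b).card.choose j =
      ∑ i ∈ Finset.range K, ((blocks B).filter (fun c => (c ∩ b).card = i)).card * i.choose j := by
  classical
  rw [← sum_fiberwise_of_maps_to (s := blocks B) (t := Finset.range K)
    (g := fun c => (c ∩ b).card) (f := fun c => (c ∩ b).card.choose j)
    (fun c hc => mem_range.mpr (hK c hc))]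
  refine sum_congr rfl fun i _ => ?_
  rw [card_eq_sum_ones, sum_mul]
  refine sum_congr rfl fun c hc => ?_
  rw [(mem_filter.mp hc).2, one_mul]

end Cfsg.Agent.Lib.BasicSteiner.Count
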