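import Mathlib
import Cfsg.Prelude.Def_Sporadic_a
import Cfsg.Agent.S0350

/-!
# A certified canonical-labelling search for Steiner systems

For a Steiner system `S(t, k, n)` with `n ≤ 24` whose distinct blocks meet in a known set of sizes, the checker `chk`
walks through a search tree: points receive labels `0, 1, …` in the order in which they first occur, and a block is a
bit mask of labels.  The soundness theorem says that a successful check gives a labelling of the whole point set under
which the system is a fixed list of masks.
-/

set_option autoImplicit false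

namespace Cfsg.Agent.Lib.BasicSteiner.Search

/-! ### Bit masks -/

/-- The labels of a mask. -/
def bitsOf (x : ℕ) : Finset ℕ := (Finset.range 24).filter (fun i => x.testBit i = true)

theorem mem_bitsOf {x i : ℕ} : i ∈ bitsOf x ↔ i < 24 ∧ x.testBit i = true := by
  simp [bitsOf]

/-- Popcount table for 12-bit numbers, one hexadecimal digit per number. -/
def tblLit : ℕ := 0xcbbabaa9baa9a998baa9a998a9989887baa9a998a9989887a998988798878776baa9a998a9989887a998988798878776a9989887988787769887877687767665baa9a998a9989887a998988798878776a9989887988787769887877687767665a998988798878776988787768776766598878776877676658776766576656554baa9a998a9989887a998988798878776a9989887988787769887877687767665a998988798878776988787768776766598878776877676658776766576656554a9989887988787769887877687767665988787768776766587767665766565549887877687767665877676657665655487767665766565547665655465545443baa9a998a9989887a998988798878776a9989887988787769887877687767665a998988798878776988787768776766598878776877676658776766576656554a9989887988787769887877687767665988787768776766587767665766565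549887877687767665877676657665655487767665766565547665655465545443a998988798878776988787768776766598878776877676658776766576656554988787768776766587767665766565548776766576656554766565546554544398878776877676658776766576656554877676657665655476656554655454438776766576656554766565546554544376656554655454436554544354434332baa9a998a9989887a998988798878776a9989887988787769887877687767665a998988798878776988787768776766598878776877676658776766576656554a9989887988787769887877687767665988787768776766587767665766565549887877687767665877676657665655487767665766565547665655465545443a998988798878776988787768776766598878776877676658776766576656554988787768776766587767665766565548776766576656554766565546554544398878776877676658776766576656554877676657665655476656554655454438776766576656554766565546554544376656554655454436554544354434332a99898879887877698878776877676659887877687767665877676657665655498878776877676658776766576656554877676657665655476656554655454439887877687767665877676657665655487767665766565547665655465545443877676657665655476656554655454437665655465545443655454435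44343329887877687767665877676657665655487767665766565547665655465545443877676657665655476656554655454437665655465545443655454435443433287767665766565547665655465545443766565546554544365545443544343327665655465545443655454435443433265545443544343325443433243323221baa9a998a9989887a998988798878776a9989887988787769887877687767665a998988798878776988787768776766598878776877676658776766576656554a9989887988787769887877687767665988787768776766587767665766565549887877687767665877676657665655487767665766565547665655465545443a998988798878776988787768776766598878776877676658776766576656554988787768776766587767665766565548776766576656554766565546554544398878776877676658776766576656554877676657665655476656554655454438776766576656554766565546554544376656554655454436554544354434332a9989887988787769887877687767665988787768776766587767665766565549887877687767665877676657665655487767665766565547665655465545443988787768776766587767665766565548776766576656554766565546554544387767665766565547665655465545443766565546554544365545443544343329887877687767665877676657665655487767665766565547665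655465545443877676657665655476656554655454437665655465545443655454435443433287767665766565547665655465545443766565546554544365545443544343327665655465545443655454435443433265545443544343325443433243323221a998988798878776988787768776766598878776877676658776766576656554988787768776766587767665766565548776766576656554766565546554544398878776877676658776766576656554877676657665655476656554655454438776766576656554766565546554544376656554655454436554544354434332988787768776766587767665766565548776766576656554766565546554544387767665766565547665655465545443766565546554544365545443544343328776766576656554766565546554544376656554655454436554544354434332766565546554544365545443544343326554544354434332544343324332322198878776877676658776766576656554877676657665655476656554655454438776766576656554766565546554544376656554655454436554544354434332877676657665655476656554655454437665655465545443655454435443433276656554655454436554544354434332655454435443433254434332433232218776766576656554766565546554544376656554655454436554544354434332766565546554544365545443544343326554544354434332544343324332322176656554655454436554544354434332655454435443433254434332433232216554544354434332544343324332322154434332433232214332322132212110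

def pc12 (x : ℕ) : ℕ := Nat.land (Nat.shiftRight tblLit (Nat.mul 4 x)) 15

/-- Population count of a mask (the labels below 24 only). -/
def pc (x : ℕ) : ℕ := Nat.add (pc12 (Nat.land x 4095)) (pc12 (Nat.land (Nat.shiftRight x 12) 4095))

/-- The number of labels below 12. -/
def spec12 (y : ℕ) : ℕ :=
  (y.testBit 0).toNat + (y.testBit 1).toNat + (y.testBit 2).toNat + (y.testBit 3).toNat +
    (y.testBit 4).toNat + (y.testBit 5).toNat + (y.testBit 6).toNat + (y.testBit 7).toNat +
    (y.testBit 8).toNat + (y.testBit 9).toNat + (y.testBit 10).toNat + (y.testBit 11).toNat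

theorem pc12_check : (List.range 4096).all (fun y => Nat.beq (pc12 y) (spec12 y)) = true := by
  decide +kernel

theorem pc12_spec : ∀ y, y < 4096 → pc12 y = ((Finset.range 12).filter (fun i => y.testBit i = true)).card := by
  intro y hy
  have h := List.all_eq_true.mp pc12_check y (List.mem_range.mpr hy)
  have h' : pc12 y = spec12 y := Nat.eq_of_beq_eq_true h
  rw [h', Finset.card_filter]
  simp only [Finset.sum_range_succ, Finset.sum_range_zero, spec12, zero_add]
  have key : ∀ b : Bool, b.toNat = if b = true then 1 else 0 := by
    intro b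
    cases b <;> rfl
  simp only [key]

theorem card_bits_split (x : ℕ) :
    (bitsOf x).card = ((Finset.range 12).filter (fun i => (Nat.land x 4095).testBit i = true)).card +
      ((Finset.range 12).filter (fun i => (Nat.land (Nat.shiftRight x 12) 4095).testBit i = true)).card := by
  have h4095 : ∀ i, i < 12 → (4095 : ℕ).testBit i = true := by decide
  unfold bitsOf
  rw [Finset.card_filter, Finset.card_filter, Finset.card_filter]
  rw [show (24 : ℕ) = 12 + 12 from rfl, Finset.sum_range_add]
  congr 1
  · refine Finset.sum_congr rfl fun i hi => ?_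
    have hi' := Finset.mem_range.mp hi
    have : (Nat.land x 4095).testBit i = x.testBit i := by
      change (x &&& 4095).testBit i = _
      rw [Nat.testBit_land, h4095 i hi', Bool.and_true]
    rw [this]
  · refine Finset.sum_congr rfl fun i hi => ?_
    have hi' := Finset.mem_range.mp hi
    have : (Nat.land (Nat.shiftRight x 12) 4095).testBit i = x.testBit (12 + i) := by
      change ((x >>> 12) &&& 4095).testBit i = _
      rw [Nat.testBit_land, h4095 i hi', Bool.and_true, Nat.testBit_shiftRight]
    rw [this]

theorem pc_eq (x : ℕ) : pc x = (bitsOf x).card := by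
  rw [card_bits_split, pc]
  have h1 : Nat.land x 4095 < 4096 := by
    change x &&& 4095 < 4096
    exact Nat.lt_succ_of_le (Nat.and_le_right)
  have h2 : Nat.land (Nat.shiftRight x 12) 4095 < 4096 := by
    change (x >>> 12) &&& 4095 < 4096
    exact Nat.lt_succ_of_le (Nat.and_le_right)
  rw [← pc12_spec _ h1, ← pc12_spec _ h2]
  rfl

theorem bitsOf_land (a b : ℕ) : bitsOf (Nat.land a b) = bitsOf a ∩ bitsOf b := by
  ext i
  simp only [mem_bitsOf, Finset.mem_inter]
  have : (Nat.land a b).testBit i = (a.testBit i && b.testBit i) := Nat.testBit_land a b i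
  rw [this, Bool.and_eq_true]
  tauto

/-- A mask with the labels of a list. -/
def maskL : List ℕ → ℕ
  | [] => 0
  | i :: l => Nat.lor (Nat.shiftLeft 1 i) (maskL l)

theorem testBit_shiftLeft_one (i j : ℕ) : (Nat.shiftLeft 1 i).testBit j = decide (j = i) := by
  change (1 <<< i).testBit j = _
  rw [Nat.one_shiftLeft, Nat.testBit_two_pow]
  simp [eq_comm]

theorem testBit_maskL (l : List ℕ) (j : ℕ) : (maskL l).testBit j = true ↔ j ∈ l := by
  induction l with
  | nil => simp [maskL]
  | cons i l ih =>
    have : (maskL (i :: l)).testBit j = ((Nat.shiftLeft 1 i).testBit j || (maskL l).testBit j) :=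
      Nat.testBit_lor _ _ _
    rw [this, Bool.or_eq_true, testBit_shiftLeft_one, ih, List.mem_cons]
    simp

/-! ### The search step -/

/-- The bit `i` of `s`. -/
def tb (s i : ℕ) : Bool := Nat.beq (Nat.land (Nat.shiftRight s i) 1) 1

theorem tb_eq (s i : ℕ) : tb s i = s.testBit i := by
  unfold tb
  have h : Nat.land (Nat.shiftRight s i) 1 = (s >>> i) &&& 1 := rfl
  rw [h, Nat.and_one_is_mod]
  have h2 : s.testBit i = decide ((s >>> i) % 2 = 1) := by
    rw [Nat.testBit]
    rw [Nat.one_and_eq_mod_two]
    by_cases h3 : (s >>> i) % 2 = 1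
    · simp [h3]
    · have : (s >>> i) % 2 = 0 := by omega
      simp [this]
  rw [h2]
  by_cases h3 : (s >>> i) % 2 = 1
  · simp [h3]
  · simp only [h3, decide_false]
    rw [Bool.eq_false_iff]
    intro h4
    exact h3 (Nat.eq_of_beq_eq_true h4)

/-- `I` is the set of allowed intersection sizes, as a mask. -/
def allowedB (I x : ℕ) : Bool := tb I x

/-- Some block of `K` meets `A` in a forbidden number of labels. -/
noncomputable def conflictB (I : ℕ) (K : List ℕ) (A : ℕ) : Bool :=
  List.rec (motive := fun _ => Bool) false
    (fun b _ ih => Bool.rec (motive := fun _ => Bool) true ih (allowedB I (pc (Nat.land b A)))) K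

theorem conflictB_nil (I A : ℕ) : conflictB I [] A = false := rfl

theorem conflictB_cons (I b A : ℕ) (K : List ℕ) :
    conflictB I (b :: K) A = ((!allowedB I (pc (Nat.land b A))) || conflictB I K A) := by
  change Bool.rec (motive := fun _ => Bool) true (conflictB I K A) (allowedB I (pc (Nat.land b A))) = _
  cases allowedB I (pc (Nat.land b A)) <;> rfl

theorem conflictB_of_mem {I : ℕ} {K : List ℕ} {A : ℕ} (h : conflictB I K A = false) {b : ℕ} (hb : b ∈ K) :
    allowedB I (pc (Nat.land b A)) = true := by
  induction K with
  | nil => simp at hb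
  | cons c K ih =>
    simp only [conflictB_cons, Bool.or_eq_false_iff, Bool.not_eq_false'] at h
    rcases List.mem_cons.mp hb with rfl | hb
    · exact h.1
    · exact ih h.2 hb

/-- The union of the blocks of `K` that meet `s` in `M` labels. -/
noncomputable def forb (M s : ℕ) (K : List ℕ) : ℕ :=
  List.rec (motive := fun _ => ℕ) 0
    (fun b _ ih => Bool.rec (motive := fun _ => ℕ) ih (Nat.lor b ih) (Nat.beq (pc (Nat.land b s)) M)) K

theorem forb_cons (M s b : ℕ) (K : List ℕ) :
    forb M s (b :: K) = if pc (Nat.land b s) = M then Nat.lor b (forb M s K) else forb M s K := by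
  change Bool.rec (motive := fun _ => ℕ) (forb M s K) (Nat.lor b (forb M s K)) (Nat.beq (pc (Nat.land b s)) M) = _
  by_cases h : pc (Nat.land b s) = M
  · rw [if_pos h, h, Nat.beq_refl]
  · rw [if_neg h]
    have : Nat.beq (pc (Nat.land b s)) M = false := by
      rw [Bool.eq_false_iff]
      intro h'
      exact h (Nat.eq_of_beq_eq_true h')
    rw [this]

theorem testBit_forb {M s : ℕ} {K : List ℕ} {j : ℕ} (h : (forb M s K).testBit j = true) :
    ∃ b ∈ K, pc (Nat.land b s) = M ∧ b.testBit j = true := by
  induction K with
  | nil => exact absurd h (by simp [show forb M s [] = 0 from rfl])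
  | cons c K ih =>
    rw [forb_cons] at h
    by_cases hc : pc (Nat.land c s) = M
    · rw [if_pos hc] at h
      have e : (Nat.lor c (forb M s K)).testBit j = (c.testBit j || (forb M s K).testBit j) :=
        Nat.testBit_lor _ _ _
      rw [e, Bool.or_eq_true] at h
      rcases h with h | h
      · exact ⟨c, List.mem_cons_self, hc, h⟩
      · obtain ⟨b, hb, h1, h2⟩ := ih h
        exact ⟨b, List.mem_cons_of_mem _ hb, h1, h2⟩
    · rw [if_neg hc] at h
      obtain ⟨b, hb, h1, h2⟩ := ih h
      exact ⟨b, List.mem_cons_of_mem _ hb, h1, h2⟩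

def memB (x : ℕ) : List ℕ → Bool
  | [] => false
  | y :: l => Nat.beq x y || memB x l

theorem memB_iff {x : ℕ} {l : List ℕ} : memB x l = true ↔ x ∈ l := by
  induction l with
  | nil => simp [memB]
  | cons y l ih => simp [memB, ih, Nat.beq_eq]

/-- No block of `K` contains `s`. -/
def uncoveredB (s : ℕ) : List ℕ → Bool
  | [] => true
  | b :: K => (!Nat.beq (Nat.land s b) s) && uncoveredB s K

theorem uncoveredB_of_mem {s : ℕ} {K : List ℕ} (h : uncoveredB s K = true) {b : ℕ} (hb : b ∈ K) :
    Nat.land s b ≠ s := by
  induction K with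
  | nil => simp at hb
  | cons c K ih =>
    simp only [uncoveredB, Bool.and_eq_true, Bool.not_eq_true'] at h
    rcases List.mem_cons.mp hb with rfl | hb
    · intro he
      have : Nat.beq (Nat.land s b) s = true := Nat.beq_eq ▸ he
      rw [this] at h
      simp at h
    · exact ih h.2 hb

/-- Evaluate the argument first: this keeps the terms small in a kernel computation. -/
def forceNat {β : Type} (x : ℕ) (f : ℕ → β) : β :=
  Nat.casesOn (motive := fun _ => β) x (f 0) (fun y => f (Nat.succ y))

theorem forceNat_eq {β : Type} (x : ℕ) (f : ℕ → β) : forceNat x f = f x := by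
  cases x <;> rfl

/-- All extensions of `A` by at most `need` labels below `i` outside `s` satisfy `p`. -/
noncomputable def allExt (p : ℕ → Bool) (s : ℕ) (i : ℕ) : ℕ → ℕ → Bool :=
  Nat.rec (motive := fun _ => ℕ → ℕ → Bool) (fun _ A => p A)
    (fun i ih need A =>
      Nat.rec (motive := fun _ => Bool) (p A)
        (fun need' _ =>
          Bool.rec (motive := fun _ => Bool) false
            (Bool.rec (motive := fun _ => Bool)
              (forceNat (Nat.lor (Nat.shiftLeft 1 i) A) (fun A' => ih need' A')) true (tb s i))
            (ih (Nat.succ need') A))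
        need) i

theorem allExt_zero (p : ℕ → Bool) (s need A : ℕ) : allExt p s 0 need A = p A := rfl

theorem allExt_need_zero (p : ℕ → Bool) (s i A : ℕ) : allExt p s (i + 1) 0 A = p A := rfl

theorem allExt_succ (p : ℕ → Bool) (s i need A : ℕ) :
    allExt p s (i + 1) (need + 1) A = (allExt p s i (need + 1) A &&
      (s.testBit i || forceNat (Nat.lor (Nat.shiftLeft 1 i) A) (fun A' => allExt p s i need A'))) := by
  change Bool.rec (motive := fun _ => Bool) false
      (Bool.rec (motive := fun _ => Bool)
        (forceNat (Nat.lor (Nat.shiftLeft 1 i) A) (fun A' => allExt p s i need A')) true (tb s i))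
      (allExt p s i (need + 1) A) = _
  rw [tb_eq]
  cases allExt p s i (need + 1) A <;> cases s.testBit i <;> simp

theorem allExt_sound {p : ℕ → Bool} {s i need A : ℕ} (h : allExt p s i need A = true) :
    ∀ Y : Finset ℕ, Y ⊆ Finset.range i → (∀ j ∈ Y, s.testBit j = false) → Y.card ≤ need → ∀ A',
      (∀ j, A'.testBit j = (A.testBit j || decide (j ∈ Y))) → p A' = true := by
  induction i generalizing need A with
  | zero =>
    intro Y hY _ _ A' hA'
    have hY0 : Y = ∅ := by simpa using hY
    subst hY0
    have : A' = A := Nat.eq_of_testBit_eq (fun j => by simpa using hA' j)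
    rw [this]
    rw [allExt_zero] at h
    exact h
  | succ i ih =>
    intro Y hY hYs hcard A' hA'
    cases need with
    | zero =>
      have hY0 : Y = ∅ := by
        simpa using hcard
      subst hY0
      have : A' = A := Nat.eq_of_testBit_eq (fun j => by simpa using hA' j)
      rw [this]
      rw [allExt_need_zero] at h
      exact h
    | succ need =>
      simp only [allExt_succ, Bool.and_eq_true, Bool.or_eq_true, forceNat_eq] at h
      by_cases hi : i ∈ Y
      · have h1 := hYs i hi
        rcases h.2 with h2 | h2
        · rw [h1] at h2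
          simp at h2
        · refine ih h2 (Y.erase i) ?_ ?_ ?_ A' ?_
          · intro j hj
            have h3 := Finset.mem_erase.mp hj
            have h4 := Finset.mem_range.mp (hY h3.2)
            exact Finset.mem_range.mpr (by omega)
          · intro j hj
            exact hYs j (Finset.mem_erase.mp hj).2
          · rw [Finset.card_erase_of_mem hi]
            omega
          · intro j
            rw [hA' j]
            have e : (Nat.lor (Nat.shiftLeft 1 i) A).testBit j = ((Nat.shiftLeft 1 i).testBit j || A.testBit j) :=
              Nat.testBit_lor _ _ _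
            rw [e, testBit_shiftLeft_one]
            by_cases h5 : j = i
            · subst h5
              simp [hi]
            · by_cases h6 : A.testBit j <;> by_cases h7 : j ∈ Y <;> simp [h5, h6, h7, Finset.mem_erase]
      · refine ih h.1 Y ?_ hYs hcard A' hA'
        intro j hj
        have h4 := Finset.mem_range.mp (hY hj)
        have : j ≠ i := fun h' => hi (h' ▸ hj)
        exact Finset.mem_range.mpr (by omega)

/-- The new block: the old labels `A` and `r` new labels from `m` on. -/
def mkBlock (A r m : ℕ) : ℕ := Nat.lor A (Nat.shiftLeft (Nat.sub (Nat.shiftLeft 1 r) 1) m)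

theorem testBit_mkBlock (A r m j : ℕ) :
    (mkBlock A r m).testBit j = (A.testBit j || decide (m ≤ j ∧ j < m + r)) := by
  have e : (mkBlock A r m).testBit j =
      (A.testBit j || (Nat.shiftLeft (Nat.sub (Nat.shiftLeft 1 r) 1) m).testBit j) := Nat.testBit_lor _ _ _
  rw [e]
  congr 1
  change (((1 <<< r) - 1) <<< m).testBit j = _
  rw [Nat.testBit_shiftLeft, Nat.one_shiftLeft, Nat.testBit_two_pow_sub_one]
  by_cases h : m ≤ j
  · simp only [h, decide_true, Bool.true_and, true_and]
    congr 1
    simp only [eq_iff_iff]
    omega
  · simp [h]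

/-- The local check at a node: `s` is a `t`-set of labels covered by no known block, and each possible trace of the
block through `s` on the old labels is excluded or listed in `ks`. -/
noncomputable def nodeOK (n t k I M s : ℕ) (ks : List ℕ) (m : ℕ) (K : List ℕ) : Bool :=
  Nat.ble m 24 && Nat.blt s (Nat.shiftLeft 1 m) && Nat.beq (pc s) t && uncoveredB s K &&
    forceNat (Nat.lor s (forb M s K)) fun F =>
      allExt (fun A => conflictB I K A || Nat.blt (Nat.sub n m) (Nat.sub k (pc A)) || memB A ks) F m
        (Nat.sub k t) s

/-! ### The semantics -/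

section Semantics

variable {α : Type*} [DecidableEq α]

/-- The block with the labels of the mask `x`. -/
def blk (φ : ℕ → α) (x : ℕ) : Finset α := (bitsOf x).image φ

/-- The labelling `φ` of the labels below `m` carries the masks of `K` to blocks of `B`. -/
structure Good (B : Set (Finset α)) (φ : ℕ → α) (m : ℕ) (K : List ℕ) : Prop where
  le : m ≤ 24
  inj : Set.InjOn φ (Set.Iio m)
  bits : ∀ x ∈ K, bitsOf x ⊆ Finset.range m
  mem : ∀ x ∈ K, blk φ x ∈ B

theorem mem_blk_iff {φ : ℕ → α} {m x i : ℕ} (hinj : Set.InjOn φ (Set.Iio m)) (hx : bitsOf x ⊆ Finset.range m)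
    (hi : i < m) : φ i ∈ blk φ x ↔ i ∈ bitsOf x := by
  unfold blk
  rw [Finset.mem_image]
  constructor
  · rintro ⟨j, hj, he⟩
    have hj' : j < m := Finset.mem_range.mp (hx hj)
    have := hinj hj' hi he
    exact this ▸ hj
  · intro h
    exact ⟨i, h, rfl⟩

theorem card_blk {φ : ℕ → α} {m x : ℕ} (hinj : Set.InjOn φ (Set.Iio m)) (hx : bitsOf x ⊆ Finset.range m) :
    (blk φ x).card = (bitsOf x).card := by
  unfold blk
  apply Finset.card_image_of_injOn
  intro a ha b hb he
  have ha' : a < m := Finset.mem_range.mp (hx ha)
  have hb' : b < m := Finset.mem_range.mp (hx hb)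
  exact hinj ha' hb' he

theorem blk_inter {φ : ℕ → α} {m x y : ℕ} (hinj : Set.InjOn φ (Set.Iio m)) (hx : bitsOf x ⊆ Finset.range m)
    (hy : bitsOf y ⊆ Finset.range m) : blk φ x ∩ blk φ y = blk φ (Nat.land x y) := by
  ext a
  simp only [blk, Finset.mem_inter, Finset.mem_image, bitsOf_land]
  constructor
  · rintro ⟨⟨i, hi, rfl⟩, ⟨j, hj, he⟩⟩
    have hi' : i < m := Finset.mem_range.mp (hx hi)
    have hj' : j < m := Finset.mem_range.mp (hy hj)
    have := hinj hj' hi' he
    subst this
    exact ⟨j, ⟨hi, hj⟩, rfl⟩
  · rintro ⟨i, hi, rfl⟩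
    exact ⟨⟨i, hi.1, rfl⟩, ⟨i, hi.2, rfl⟩⟩

end Semantics


/-! ### One step of the search -/

section Step

variable {α : Type*} [DecidableEq α] [Fintype α] {n t k I M : ℕ} {B : Set (Finset α)}

theorem conflictB_false {I : ℕ} {K : List ℕ} {A : ℕ} (h : ∀ b ∈ K, allowedB I (pc (Nat.land b A)) = true) :
    conflictB I K A = false := by
  induction K with
  | nil => rfl
  | cons c K ih =>
    simp only [conflictB_cons, Bool.or_eq_false_iff, Bool.not_eq_false']
    exact ⟨h c (List.mem_cons_self), ih fun b hb => h b (List.mem_cons_of_mem _ hb)⟩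

theorem testBit_lt {s m j : ℕ} (hs : s < Nat.shiftLeft 1 m) (h : s.testBit j = true) : j < m := by
  by_contra hcon
  have h1 : s < 2 ^ j := by
    have h2 : Nat.shiftLeft 1 m = 2 ^ m := Nat.one_shiftLeft m
    rw [h2] at hs
    exact lt_of_lt_of_le hs (Nat.pow_le_pow_right (by norm_num) (by omega))
  rw [Nat.testBit_lt_two_pow h1] at h
  exact absurd h (by simp)

/-- The main step: the block through `s` has a listed trace on the old labels, and its new points can be
labelled by the next labels. -/
theorem node_step (hα : Fintype.card α = n) (hn : n ≤ 24) (hB : Cfsg.IsSteinerSystem t k B)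
    (hI : ∀ b ∈ B, ∀ c ∈ B, b ≠ c → allowedB I (b ∩ c).card = true) (hM : ∀ x, allowedB I x = true → x ≤ M)
    {φ : ℕ → α} {m : ℕ} {K : List ℕ} (hG : Good B φ m K) {s : ℕ} {ks : List ℕ}
    (h : nodeOK n t k I M s ks m K = true) :
    ∃ A ∈ ks, ∃ φ' : ℕ → α, A < Nat.shiftLeft 1 m ∧
      Good B φ' (m + Nat.sub k (pc A)) (mkBlock A (Nat.sub k (pc A)) m :: K) := by
  classical
  simp only [nodeOK, Bool.and_eq_true, forceNat_eq] at h
  obtain ⟨⟨⟨⟨-, hs1⟩, hs2⟩, hs3⟩, hs4⟩ := h
  have hsm : s < Nat.shiftLeft 1 m := Nat.blt_eq.mp hs1
  have hst : pc s = t := Nat.eq_of_beq_eq_true hs2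
  have hbm : ∀ j, s.testBit j = true → j < m := fun j hj => testBit_lt hsm hj
  have hle : m ≤ 24 := hG.le
  have hsub : bitsOf s ⊆ Finset.range m := by
    intro j hj
    exact Finset.mem_range.mpr (hbm j (mem_bitsOf.mp hj).2)
  -- the block through `s`
  have hcard : (blk φ s).card = t := by
    rw [card_blk hG.inj hsub, ← pc_eq, hst]
  obtain ⟨c₀, ⟨hc₀, hsc₀⟩, -⟩ := hB.2 (blk φ s) hcard
  have hc₀k : c₀.card = k := hB.1 c₀ hc₀
  -- the trace
  set U : Finset ℕ := (Finset.range m).filter (fun i => φ i ∈ c₀) with hU
  set Y : Finset ℕ := U.filter (fun i => s.testBit i = false) with hY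
  set A : ℕ := Nat.lor s (maskL Y.toList) with hA
  have htest : ∀ j, A.testBit j = (s.testBit j || decide (j ∈ Y)) := by
    intro j
    have e : A.testBit j = (s.testBit j || (maskL Y.toList).testBit j) := Nat.testBit_lor _ _ _
    rw [e]
    congr 1
    by_cases hj : j ∈ Y
    · simp [hj, (testBit_maskL Y.toList j).mpr (Finset.mem_toList.mpr hj)]
    · have : (maskL Y.toList).testBit j ≠ true := fun h' =>
        hj (Finset.mem_toList.mp ((testBit_maskL Y.toList j).mp h'))
      simp [hj, this]
  have hmemU : ∀ j, j ∈ bitsOf A ↔ j ∈ U := by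
    intro j
    rw [mem_bitsOf, htest, hY, hU]
    simp only [Bool.or_eq_true, decide_eq_true_eq, Finset.mem_filter, Finset.mem_range]
    constructor
    · rintro ⟨_, h1 | ⟨h1, _⟩⟩
      · have hjm := hbm j h1
        refine ⟨hjm, hsc₀ ?_⟩
        exact Finset.mem_image_of_mem _ (mem_bitsOf.mpr ⟨by omega, h1⟩)
      · exact h1
    · rintro ⟨h1, h2⟩
      refine ⟨by omega, ?_⟩
      by_cases h3 : s.testBit j = true
      · exact Or.inl h3
      · exact Or.inr ⟨⟨h1, h2⟩, by simpa using h3⟩
  have hbitsU : bitsOf A = U := Finset.ext hmemU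
  have hAsub : bitsOf A ⊆ Finset.range m := by
    rw [hbitsU]
    exact Finset.filter_subset _ _
  have hAlt : A < Nat.shiftLeft 1 m := by
    have h2m : Nat.shiftLeft 1 m = 2 ^ m := Nat.one_shiftLeft m
    rw [h2m]
    apply Nat.lt_pow_two_of_testBit
    intro j hj
    rw [htest]
    have h1 : s.testBit j = false := by
      by_contra h'
      have := hbm j (by simpa using h')
      omega
    have h2 : j ∉ Y := by
      intro h'
      have := Finset.mem_range.mp (Finset.mem_filter.mp (Finset.mem_filter.mp h').1).1
      omega
    simp [h1, h2]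
  have hYsub : Y ⊆ Finset.range m := fun j hj => (Finset.mem_filter.mp (Finset.mem_filter.mp hj).1).1
  have hYs0 : ∀ j ∈ Y, s.testBit j = false := fun j hj => (Finset.mem_filter.mp hj).2
  have hUcard : U.card ≤ k := by
    rw [← hc₀k]
    have : (U.image φ).card = U.card := by
      apply Finset.card_image_of_injOn
      intro a ha b hb he
      have ha' : a < m := Finset.mem_range.mp (Finset.mem_filter.mp ha).1
      have hb' : b < m := Finset.mem_range.mp (Finset.mem_filter.mp hb).1
      exact hG.inj ha' hb' he
    rw [← this]
    apply Finset.card_le_card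
    intro a ha
    obtain ⟨i, hi, rfl⟩ := Finset.mem_image.mp ha
    exact (Finset.mem_filter.mp hi).2
  have hpcA : pc A = U.card := by
    rw [pc_eq, hbitsU]
  -- `Y` has the right size
  have hYlen : Y.card ≤ Nat.sub k t := by
    have h1 : Y ∪ bitsOf s = U := by
      ext j
      rw [← hmemU j, mem_bitsOf, htest]
      simp only [Finset.mem_union, mem_bitsOf, Bool.or_eq_true, decide_eq_true_eq]
      constructor
      · rintro (h1 | ⟨h1, h2⟩)
        · have := Finset.mem_range.mp (hYsub h1)
          exact ⟨by omega, Or.inr h1⟩
        · exact ⟨h1, Or.inl h2⟩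
      · rintro ⟨h1, h2 | h2⟩
        · exact Or.inr ⟨h1, h2⟩
        · exact Or.inl h2
    have h2 : Disjoint Y (bitsOf s) := by
      rw [Finset.disjoint_left]
      intro j hj hj'
      have h3 := hYs0 j hj
      rw [(mem_bitsOf.mp hj').2] at h3
      simp at h3
    have h3 := Finset.card_union_of_disjoint h2
    rw [h1, ← pc_eq, hst] at h3
    change Y.card ≤ k - t
    omega
  -- the new points
  set W : Finset α := c₀ \ (Finset.range m).image φ with hW
  have hinter : c₀ ∩ (Finset.range m).image φ = U.image φ := by
    ext a
    simp only [Finset.mem_inter, Finset.mem_image, hU, Finset.mem_filter]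
    constructor
    · rintro ⟨h1, i, hi, rfl⟩
      exact ⟨i, ⟨hi, h1⟩, rfl⟩
    · rintro ⟨i, ⟨hi, h1⟩, rfl⟩
      exact ⟨h1, i, hi, rfl⟩
  have hUim : (U.image φ).card = U.card := by
    apply Finset.card_image_of_injOn
    intro a ha b hb he
    have ha' : a < m := Finset.mem_range.mp (Finset.mem_filter.mp ha).1
    have hb' : b < m := Finset.mem_range.mp (Finset.mem_filter.mp hb).1
    exact hG.inj ha' hb' he
  have hWcard : W.card = k - U.card := by
    have := Finset.card_sdiff_add_card_inter c₀ ((Finset.range m).image φ)
    rw [hinter, hUim, hc₀k] at this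
    rw [hW]
    omega
  have himcard : ((Finset.range m).image φ).card = m := by
    rw [Finset.card_image_of_injOn, Finset.card_range]
    intro a ha b hb he
    exact hG.inj (Finset.mem_range.mp (Finset.mem_coe.mp ha)) (Finset.mem_range.mp (Finset.mem_coe.mp hb)) he
  have hWn : W.card ≤ n - m := by
    have h1 : W ⊆ Finset.univ \ (Finset.range m).image φ := by
      intro a ha
      simp only [hW, Finset.mem_sdiff] at ha
      simp [ha.2]
    have h2 := Finset.card_le_card h1
    rw [Finset.card_sdiff_of_subset (Finset.subset_univ _), Finset.card_univ, hα, himcard] at h2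
    exact h2
  set r : ℕ := k - U.card with hr
  -- the conflicts
  have hallowed : ∀ b ∈ K, allowedB I (pc (Nat.land b A)) = true := by
    intro b hb
    have hbs := hG.bits b hb
    have hne : blk φ b ≠ c₀ := by
      intro he
      apply uncoveredB_of_mem hs3 hb
      apply Nat.eq_of_testBit_eq
      intro j
      have e : (Nat.land s b).testBit j = (s.testBit j && b.testBit j) := Nat.testBit_land _ _ _
      rw [e]
      by_cases h1 : s.testBit j = true
      · have hjm := hbm j h1
        have h2 : φ j ∈ blk φ b := by
          rw [he]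
          exact hsc₀ (Finset.mem_image_of_mem _ (mem_bitsOf.mpr ⟨by omega, h1⟩))
        have h3 := (mem_blk_iff hG.inj hbs hjm).mp h2
        rw [h1, (mem_bitsOf.mp h3).2]
        rfl
      · simp [h1]
    have h1 := hI _ (hG.mem b hb) _ hc₀ hne
    have h2 : blk φ b ∩ c₀ = blk φ (Nat.land b A) := by
      ext a
      simp only [blk, Finset.mem_inter, Finset.mem_image, bitsOf_land]
      constructor
      · rintro ⟨⟨i, hi, rfl⟩, h3⟩
        have hi' : i < m := Finset.mem_range.mp (hbs hi)
        refine ⟨i, ⟨hi, ?_⟩, rfl⟩
        rw [hmemU, hU, Finset.mem_filter]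
        exact ⟨Finset.mem_range.mpr hi', h3⟩
      · rintro ⟨i, ⟨hi, hi2⟩, rfl⟩
        refine ⟨⟨i, hi, rfl⟩, ?_⟩
        rw [hmemU, hU, Finset.mem_filter] at hi2
        exact hi2.2
    rw [h2] at h1
    have hland : bitsOf (Nat.land b A) ⊆ Finset.range m := by
      rw [bitsOf_land]
      exact Finset.inter_subset_left.trans hbs
    rw [card_blk hG.inj hland, ← pc_eq] at h1
    exact h1
  -- the labels in the blocks meeting `s` in `M` labels do not occur
  have hYs : ∀ j ∈ Y, (Nat.lor s (forb M s K)).testBit j = false := by
    intro j hj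
    have e : (Nat.lor s (forb M s K)).testBit j = (s.testBit j || (forb M s K).testBit j) :=
      Nat.testBit_lor _ _ _
    rw [e, hYs0 j hj, Bool.false_or, Bool.eq_false_iff]
    intro hF
    obtain ⟨b, hb, hb1, hb2⟩ := testBit_forb hF
    have h1 := hM _ (hallowed b hb)
    have hjU : j ∈ U := (Finset.mem_filter.mp hj).1
    have hjm : j < m := Finset.mem_range.mp (Finset.mem_filter.mp hjU).1
    have h2 : pc (Nat.land b s) < pc (Nat.land b A) := by
      rw [pc_eq, pc_eq]
      apply Finset.card_lt_card
      rw [Finset.ssubset_iff_of_subset]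
      · refine ⟨j, ?_, ?_⟩
        · rw [bitsOf_land]
          refine Finset.mem_inter.mpr ⟨mem_bitsOf.mpr ⟨by omega, hb2⟩, ?_⟩
          rw [hmemU]
          exact hjU
        · rw [bitsOf_land]
          intro h3
          have h4 := (mem_bitsOf.mp (Finset.mem_inter.mp h3).2).2
          rw [hYs0 j hj] at h4
          simp at h4
      · rw [bitsOf_land, bitsOf_land]
        intro x hx
        have hx' := Finset.mem_inter.mp hx
        refine Finset.mem_inter.mpr ⟨hx'.1, ?_⟩
        rw [mem_bitsOf, htest]
        have h5 := (mem_bitsOf.mp hx'.2)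
        simp [h5.1, h5.2]
    omega
  have hp := allExt_sound hs4 Y hYsub hYs hYlen A htest
  have hconf := conflictB_false hallowed
  have hmem : memB A ks = true := by
    rw [hconf, Bool.false_or, Bool.or_eq_true] at hp
    rcases hp with hp | hp
    · exfalso
      have h1 : (Nat.sub n m) < (Nat.sub k (pc A)) := Nat.blt_eq.mp hp
      have h2 : Nat.sub n m = n - m := rfl
      have h3 : Nat.sub k (pc A) = k - pc A := rfl
      rw [h2, h3, hpcA, ← hr, ← hWcard] at h1
      omega
    · exact hp
  refine ⟨A, memB_iff.mp hmem, ?_⟩
  have hrA : Nat.sub k (pc A) = r := by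
    change k - pc A = k - U.card
    rw [hpcA]
  rw [hrA]
  -- the new labelling
  let e : W ≃ Fin r := Finset.equivFinOfCardEq hWcard
  let φ' : ℕ → α := fun i => if i < m then φ i else
    if h : i - m < r then ((e.symm ⟨i - m, h⟩ : W) : α) else φ i
  have hφ1 : ∀ i, i < m → φ' i = φ i := fun i hi => by simp [φ', hi]
  have hφ2 : ∀ i, m ≤ i → i < m + r → φ' i ∈ W := by
    intro i h1 h2
    have h3 : ¬ i < m := by omega
    have h4 : i - m < r := by omega
    simp only [φ', h3, h4, if_false, dif_pos]
    exact (e.symm _).2
  have hφ3 : ∀ i j, m ≤ i → i < m + r → m ≤ j → j < m + r → φ' i = φ' j → i = j := by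
    intro i j h1 h2 h3 h4 he
    have h5 : ¬ i < m := by omega
    have h6 : i - m < r := by omega
    have h7 : ¬ j < m := by omega
    have h8 : j - m < r := by omega
    simp only [φ', h5, h6, h7, h8, if_false, dif_pos] at he
    have := e.symm.injective (Subtype.ext he)
    have h9 := congrArg Fin.val this
    simp only at h9
    omega
  have hWnot : ∀ a ∈ W, ∀ i, i < m → a ≠ φ i := by
    intro a ha i hi he
    simp only [hW, Finset.mem_sdiff, Finset.mem_image, not_exists, not_and] at ha
    exact ha.2 i (Finset.mem_range.mpr hi) he.symm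
  have hinj' : Set.InjOn φ' (Set.Iio (m + r)) := by
    intro i hi j hj he
    have hi' : i < m + r := hi
    have hj' : j < m + r := hj
    by_cases h1 : i < m <;> by_cases h2 : j < m
    · rw [hφ1 i h1, hφ1 j h2] at he
      exact hG.inj h1 h2 he
    · exfalso
      rw [hφ1 i h1] at he
      exact hWnot _ (hφ2 j (by omega) hj') i h1 he.symm
    · exfalso
      rw [hφ1 j h2] at he
      exact hWnot _ (hφ2 i (by omega) hi') j h2 he
    · exact hφ3 i j (by omega) hi' (by omega) hj' he
  have hkeep : ∀ x, bitsOf x ⊆ Finset.range m → blk φ' x = blk φ x := by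
    intro x hx
    unfold blk
    apply Finset.image_congr
    intro i hi
    exact hφ1 i (Finset.mem_range.mp (hx hi))
  have hmkbits : ∀ j, j ∈ bitsOf (mkBlock A r m) ↔ j ∈ U ∨ (m ≤ j ∧ j < m + r) := by
    intro j
    rw [mem_bitsOf, testBit_mkBlock, ← hmemU, mem_bitsOf]
    simp only [Bool.or_eq_true, decide_eq_true_eq]
    have h24 : m + r ≤ 24 := by omega
    constructor
    · rintro ⟨h1, h2 | h2⟩
      · exact Or.inl ⟨h1, h2⟩
      · exact Or.inr h2
    · rintro (⟨h1, h2⟩ | h2)
      · exact ⟨h1, Or.inl h2⟩
      · exact ⟨by omega, Or.inr h2⟩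
  have hblk : blk φ' (mkBlock A r m) = c₀ := by
    ext a
    simp only [blk, Finset.mem_image]
    constructor
    · rintro ⟨i, hi, rfl⟩
      rcases (hmkbits i).mp hi with h1 | ⟨h1, h2⟩
      · have hf := Finset.mem_filter.mp h1
        rw [hφ1 i (Finset.mem_range.mp hf.1)]
        exact hf.2
      · exact (Finset.mem_sdiff.mp (hφ2 i h1 h2)).1
    · intro ha
      by_cases ha2 : a ∈ (Finset.range m).image φ
      · obtain ⟨i, hi, rfl⟩ := Finset.mem_image.mp ha2
        have hi' := Finset.mem_range.mp hi
        refine ⟨i, (hmkbits i).mpr (Or.inl ?_), hφ1 i hi'⟩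
        exact Finset.mem_filter.mpr ⟨hi, ha⟩
      · have haW : a ∈ W := Finset.mem_sdiff.mpr ⟨ha, ha2⟩
        let i := (e ⟨a, haW⟩ : Fin r)
        have hi := i.2
        refine ⟨m + i.1, (hmkbits _).mpr (Or.inr ⟨by omega, by omega⟩), ?_⟩
        have h1 : ¬ (m + i.1 < m) := by omega
        have h2 : m + i.1 - m < r := by omega
        simp only [φ', h1, h2, if_false, dif_pos]
        have h3 : (⟨m + i.1 - m, h2⟩ : Fin r) = i := Fin.ext (by simp)
        rw [h3]
        simp [i]
  refine ⟨φ', hAlt, ?_⟩
  refine ⟨?_, hinj', ?_, ?_⟩
  · omega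
  · intro x hx
    rcases List.mem_cons.mp hx with rfl | hx
    · intro j hj
      rcases (hmkbits j).mp hj with h1 | ⟨_, h2⟩
      · have := Finset.mem_range.mp (Finset.mem_filter.mp h1).1
        exact Finset.mem_range.mpr (by omega)
      · exact Finset.mem_range.mpr h2
    · intro j hj
      have := Finset.mem_range.mp (hG.bits x hx hj)
      exact Finset.mem_range.mpr (by omega)
  · intro x hx
    rcases List.mem_cons.mp hx with rfl | hx
    · rw [hblk]
      exact hc₀
    · rw [hkeep x (hG.bits x hx)]
      exact hG.mem x hx

/-- A new label. -/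
theorem new_step (hα : Fintype.card α = n) (hn : n ≤ 24) {φ : ℕ → α} {m : ℕ} {K : List ℕ} (hG : Good B φ m K)
    (hm : m < n) : ∃ φ' : ℕ → α, Good B φ' (m + 1) K := by
  classical
  have himcard : ((Finset.range m).image φ).card = m := by
    rw [Finset.card_image_of_injOn, Finset.card_range]
    intro a ha b hb he
    exact hG.inj (Finset.mem_range.mp (Finset.mem_coe.mp ha)) (Finset.mem_range.mp (Finset.mem_coe.mp hb)) he
  have hlt : ((Finset.range m).image φ).card < (Finset.univ : Finset α).card := by
    rw [himcard, Finset.card_univ, hα]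
    exact hm
  obtain ⟨a, -, ha⟩ := Finset.exists_mem_notMem_of_card_lt_card hlt
  let φ' : ℕ → α := fun i => if i < m then φ i else a
  have hφ1 : ∀ i, i < m → φ' i = φ i := fun i hi => by simp [φ', hi]
  have hφ2 : φ' m = a := by simp [φ']
  have hkeep : ∀ x, bitsOf x ⊆ Finset.range m → blk φ' x = blk φ x := by
    intro x hx
    unfold blk
    apply Finset.image_congr
    intro i hi
    exact hφ1 i (Finset.mem_range.mp (hx hi))
  refine ⟨φ', by omega, ?_, ?_, ?_⟩
  · intro i hi j hj he
    have hi' : i < m + 1 := hi
    have hj' : j < m + 1 := hj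
    by_cases h1 : i < m <;> by_cases h2 : j < m
    · rw [hφ1 i h1, hφ1 j h2] at he
      exact hG.inj h1 h2 he
    · exfalso
      have : j = m := by omega
      subst this
      rw [hφ1 i h1, hφ2] at he
      exact ha (he ▸ Finset.mem_image_of_mem _ (Finset.mem_range.mpr h1))
    · exfalso
      have : i = m := by omega
      subst this
      rw [hφ1 j h2, hφ2] at he
      exact ha (he ▸ Finset.mem_image_of_mem _ (Finset.mem_range.mpr h2))
    · omega
  · intro x hx j hj
    have := Finset.mem_range.mp (hG.bits x hx hj)
    exact Finset.mem_range.mpr (by omega)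
  · intro x hx
    rw [hkeep x (hG.bits x hx)]
    exact hG.mem x hx

end Step

/-! ### The search tree -/

/-- A certificate: `leaf` closes the search, `newpt` gives the next label to a fresh point, `forced` runs a list of
nodes with one possible block each, `pick` is a node with `nil`/`cons` list of children and a list of
candidates that a symmetry of the known blocks carries to a child. -/
inductive Tree where
  | leaf : Tree
  | newpt : Tree → Tree
  | forced : List (ℕ × ℕ) → Tree → Tree
  | pick : ℕ → List (ℕ × ℕ × List ℕ) → Tree → Tree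
  | nil : Tree
  | cons : ℕ → Tree → Tree → Tree

/-- The trace labels of a list of children. -/
def keys : Tree → List ℕ
  | .cons A _ rest => A :: keys rest
  | _ => []

/-- The image of a mask under a table on the labels below `m`. -/
def mapMask (m : ℕ) (τ : List ℕ) (x : ℕ) : ℕ :=
  maskL (((List.range m).filter (fun i => x.testBit i)).map (fun i => τ.getD i 0))

def fullMask (m : ℕ) : ℕ := Nat.sub (Nat.shiftLeft 1 m) 1

/-- The symmetry `τ` preserves the known blocks and carries the child `A₁` to `A'`. -/
def symOK (m : ℕ) (K ks : List ℕ) : ℕ × ℕ × List ℕ → Bool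
  | (A', A₁, τ) =>
    memB A₁ ks && Nat.blt A₁ (Nat.shiftLeft 1 m) && Nat.beq (pc A₁) (pc A') && Nat.beq (mapMask m τ A₁) A' &&
      Nat.beq (mapMask m τ (fullMask m)) (fullMask m) && K.all (fun b => memB (mapMask m τ b) K)

def listEq : List ℕ → List ℕ → Bool
  | [], [] => true
  | a :: l, b :: l' => Nat.beq a b && listEq l l'
  | _, _ => false

theorem listEq_eq {l l' : List ℕ} (h : listEq l l' = true) : l = l' := by
  induction l generalizing l' with
  | nil =>
    cases l' with
    | nil => rfl
    | cons _ _ => simp [listEq] at h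
  | cons a l ih =>
    cases l' with
    | nil => simp [listEq] at h
    | cons b l' =>
      simp only [listEq, Bool.and_eq_true] at h
      rw [Nat.eq_of_beq_eq_true h.1, ih h.2]

/-- Running a list of forced nodes. -/
noncomputable def runForced (n t k I M : ℕ) : List (ℕ × ℕ) → ℕ → List ℕ → Option (ℕ × List ℕ)
  | [], m, K => some (m, K)
  | (s, A) :: L, m, K =>
    match nodeOK n t k I M s [A] m K with
    | true =>
      forceNat (Nat.sub k (pc A)) fun r =>
        forceNat (Nat.add m r) fun m' =>
          forceNat (mkBlock A r m) fun b => runForced n t k I M L m' (b :: K)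
    | false => none

/-- Node, as opposed to list of children. -/
def isNode : Tree → Bool
  | .nil => false
  | .cons _ _ _ => false
  | _ => true

/-- The checker. -/
noncomputable def chk (n t k I M : ℕ) (Ref : List ℕ) : Tree → ℕ → List ℕ → Bool
  | .leaf, m, K => Nat.beq m n && listEq K Ref
  | .newpt tr, m, K => Nat.blt m n && isNode tr && forceNat (Nat.add m 1) fun m' => chk n t k I M Ref tr m' K
  | .forced steps tr, m, K =>
    match runForced n t k I M steps m K with
    | some (m', K') => isNode tr && chk n t k I M Ref tr m' K'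
    | none => false
  | .pick s sym ch, m, K =>
    nodeOK n t k I M s (keys ch ++ sym.map (fun e => e.1)) m K && sym.all (symOK m K (keys ch)) &&
      chk n t k I M Ref ch m K
  | .nil, _, _ => true
  | .cons A tr rest, m, K =>
    isNode tr &&
      (forceNat (Nat.sub k (pc A)) fun r =>
        forceNat (Nat.add m r) fun m' =>
          forceNat (mkBlock A r m) fun b => chk n t k I M Ref tr m' (b :: K)) &&
      chk n t k I M Ref rest m K

section Sound

variable {α : Type*} [DecidableEq α] [Fintype α] {n t k I M : ℕ} {B : Set (Finset α)} {Ref : List ℕ} {C : Prop}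

theorem bits_mapMask {m : ℕ} {τ : List ℕ} {x j : ℕ} (hj : j < 24) :
    j ∈ bitsOf (mapMask m τ x) ↔ ∃ i, i < m ∧ x.testBit i = true ∧ τ.getD i 0 = j := by
  rw [mem_bitsOf]
  unfold mapMask
  rw [testBit_maskL]
  simp only [List.mem_map, List.mem_filter, List.mem_range]
  constructor
  · rintro ⟨_, i, ⟨h1, h2⟩, h3⟩
    exact ⟨i, h1, h2, h3⟩
  · rintro ⟨i, h1, h2, h3⟩
    exact ⟨hj, i, ⟨h1, h2⟩, h3⟩

/-- A symmetry transports the claim. -/
theorem sym_good {m r : ℕ} {K : List ℕ} {A' A₁ : ℕ} {τ : List ℕ} {φ : ℕ → α} (hm : m + r ≤ 24)
    (hG : Good B φ (m + r) (mkBlock A' r m :: K)) (hKm : ∀ b ∈ K, bitsOf b ⊆ Finset.range m)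
    (hA₁ : A₁ < Nat.shiftLeft 1 m) (h2 : mapMask m τ A₁ = A')
    (h3 : mapMask m τ (fullMask m) = fullMask m)
    (h4 : ∀ b ∈ K, mapMask m τ b ∈ K) :
    ∃ φ' : ℕ → α, Good B φ' (m + r) (mkBlock A₁ r m :: K) := by
  classical
  have hm24 : m ≤ 24 := by omega
  -- the table on the labels
  set τf : ℕ → ℕ := fun i => τ.getD i 0 with hτf
  have hfull : ∀ j, (fullMask m).testBit j = true ↔ j < m := by
    intro j
    have h1 : fullMask m = 2 ^ m - 1 := by
      change (1 <<< m) - 1 = _
      rw [Nat.one_shiftLeft]
    rw [h1, Nat.testBit_two_pow_sub_one]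
    simp
  have hτlt : ∀ i, i < m → τf i < m := by
    intro i hi
    by_contra hcon
    by_cases h24 : τf i < 24
    · have h5 : τf i ∈ bitsOf (mapMask m τ (fullMask m)) := by
        rw [bits_mapMask h24]
        exact ⟨i, hi, (hfull i).mpr hi, rfl⟩
      rw [h3] at h5
      exact hcon ((hfull _).mp (mem_bitsOf.mp h5).2)
    · -- the bit of the image above the width
      have h5 : (mapMask m τ (fullMask m)).testBit (τf i) = true := by
        unfold mapMask
        rw [testBit_maskL]
        simp only [List.mem_map, List.mem_filter, List.mem_range]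
        exact ⟨i, ⟨hi, (hfull i).mpr hi⟩, rfl⟩
      rw [h3] at h5
      exact hcon ((hfull _).mp h5)
  have hsurj : ∀ j, j < m → ∃ i, i < m ∧ τf i = j := by
    intro j hj
    have h5 : j ∈ bitsOf (mapMask m τ (fullMask m)) := by
      rw [h3, mem_bitsOf]
      exact ⟨by omega, (hfull j).mpr hj⟩
    rw [bits_mapMask (by omega)] at h5
    obtain ⟨i, h6, -, h8⟩ := h5
    exact ⟨i, h6, h8⟩
  have hτinj : Set.InjOn τf (Set.Iio m) := by
    have himg : (Finset.range m).image τf = Finset.range m := by
      ext j
      simp only [Finset.mem_image, Finset.mem_range]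
      constructor
      · rintro ⟨i, hi, rfl⟩
        exact hτlt i hi
      · intro hj
        exact hsurj j hj
    have hcard : ((Finset.range m).image τf).card = (Finset.range m).card := by rw [himg]
    have := Finset.card_image_iff.mp hcard
    intro a ha b hb he
    exact this (Finset.mem_coe.mpr (Finset.mem_range.mpr ha)) (Finset.mem_coe.mpr (Finset.mem_range.mpr hb)) he
  set τt : ℕ → ℕ := fun i => if i < m then τf i else i with hτt
  have hτt1 : ∀ i, i < m → τt i = τf i := fun i hi => by simp [hτt, hi]
  have hτt2 : ∀ i, ¬ i < m → τt i = i := fun i hi => by simp [hτt, hi]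
  have htinj : Set.InjOn τt (Set.Iio (m + r)) := by
    intro a _ b _ he
    by_cases h5 : a < m <;> by_cases h6 : b < m
    · rw [hτt1 a h5, hτt1 b h6] at he
      exact hτinj h5 h6 he
    · rw [hτt1 a h5, hτt2 b h6] at he
      have := hτlt a h5
      omega
    · rw [hτt2 a h5, hτt1 b h6] at he
      have := hτlt b h6
      omega
    · rw [hτt2 a h5, hτt2 b h6] at he
      exact he
  have htlt : ∀ i, i < m + r → τt i < m + r := by
    intro i hi
    by_cases h5 : i < m
    · rw [hτt1 i h5]
      have := hτlt i h5
      omega
    · rw [hτt2 i h5]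
      exact hi
  refine ⟨fun i => φ (τt i), hG.le, ?_, ?_, ?_⟩
  · intro a ha b hb he
    exact htinj ha hb (hG.inj (htlt a ha) (htlt b hb) he)
  · intro x hx
    rcases List.mem_cons.mp hx with rfl | hx
    · have := hG.bits _ (List.mem_cons_self)
      intro j hj
      rw [mem_bitsOf, testBit_mkBlock] at hj
      rcases (Bool.or_eq_true _ _).mp hj.2 with h5 | h5
      · have := testBit_lt hA₁ h5
        exact Finset.mem_range.mpr (by omega)
      · exact Finset.mem_range.mpr (of_decide_eq_true h5).2
    · intro j hj
      have := Finset.mem_range.mp (hG.bits x (List.mem_cons_of_mem _ hx) hj)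
      exact Finset.mem_range.mpr this
  · intro x hx
    -- the image of `x` under `τt` is again a known mask
    have hgen : ∀ y, (∀ j ∈ bitsOf x, τt j ∈ bitsOf y) → (∀ j ∈ bitsOf y, ∃ i ∈ bitsOf x, τt i = j) →
        y ∈ mkBlock A' r m :: K → blk (fun i => φ (τt i)) x ∈ B := by
      intro y h5 h6 h7
      have : blk (fun i => φ (τt i)) x = blk φ y := by
        ext a
        simp only [blk, Finset.mem_image]
        constructor
        · rintro ⟨i, hi, rfl⟩
          exact ⟨τt i, h5 i hi, rfl⟩
        · rintro ⟨j, hj, rfl⟩
          obtain ⟨i, hi, rfl⟩ := h6 j hj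
          exact ⟨i, hi, rfl⟩
      rw [this]
      exact hG.mem y h7
    rcases List.mem_cons.mp hx with rfl | hx
    · refine hgen (mkBlock A' r m) ?_ ?_ List.mem_cons_self
      · intro j hj
        rw [mem_bitsOf, testBit_mkBlock] at hj
        rcases (Bool.or_eq_true _ _).mp hj.2 with h5 | h5
        · have hjm := testBit_lt hA₁ h5
          rw [hτt1 j hjm]
          have hlt := hτlt j hjm
          rw [mem_bitsOf, testBit_mkBlock]
          refine ⟨by omega, ?_⟩
          have h6 : τf j ∈ bitsOf (mapMask m τ A₁) := by
            rw [bits_mapMask (by omega)]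
            exact ⟨j, hjm, h5, rfl⟩
          rw [h2] at h6
          rw [(mem_bitsOf.mp h6).2]
          rfl
        · have h6 := of_decide_eq_true h5
          rw [hτt2 j (by omega)]
          rw [mem_bitsOf, testBit_mkBlock]
          refine ⟨by omega, ?_⟩
          simp [h6]
      · intro j hj
        rw [mem_bitsOf, testBit_mkBlock] at hj
        rcases (Bool.or_eq_true _ _).mp hj.2 with h5 | h5
        · have h6 : j ∈ bitsOf (mapMask m τ A₁) := by
            rw [h2]
            exact mem_bitsOf.mpr ⟨hj.1, h5⟩
          rw [bits_mapMask hj.1] at h6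
          obtain ⟨i, h7, h8, h9⟩ := h6
          refine ⟨i, ?_, ?_⟩
          · rw [mem_bitsOf, testBit_mkBlock]
            refine ⟨by omega, ?_⟩
            rw [h8]
            rfl
          · rw [hτt1 i h7]
            exact h9
        · have h6 := of_decide_eq_true h5
          refine ⟨j, ?_, hτt2 j (by omega)⟩
          rw [mem_bitsOf, testBit_mkBlock]
          refine ⟨hj.1, ?_⟩
          simp [h6]
    · have hxb := hKm x hx
      refine hgen (mapMask m τ x) ?_ ?_ (List.mem_cons_of_mem _ (h4 x hx))
      · intro j hj
        have hjm : j < m := Finset.mem_range.mp (hxb hj)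
        rw [hτt1 j hjm]
        have hlt := hτlt j hjm
        rw [bits_mapMask (by omega)]
        exact ⟨j, hjm, (mem_bitsOf.mp hj).2, rfl⟩
      · intro j hj
        have hj24 := (mem_bitsOf.mp hj).1
        rw [bits_mapMask hj24] at hj
        obtain ⟨i, h7, h8, h9⟩ := hj
        refine ⟨i, mem_bitsOf.mpr ⟨by omega, h8⟩, ?_⟩
        rw [hτt1 i h7]
        exact h9

theorem runForced_sound (hα : Fintype.card α = n) (hn : n ≤ 24) (hB : Cfsg.IsSteinerSystem t k B)
    (hI : ∀ b ∈ B, ∀ c ∈ B, b ≠ c → allowedB I (b ∩ c).card = true) (hM : ∀ x, allowedB I x = true → x ≤ M)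
    {L : List (ℕ × ℕ)} {m m' : ℕ} {K K' : List ℕ} (h : runForced n t k I M L m K = some (m', K'))
    (hc : ∀ φ, Good B φ m' K' → C) : ∀ φ, Good B φ m K → C := by
  induction L generalizing m K with
  | nil =>
    simp only [runForced, Option.some.injEq, Prod.mk.injEq] at h
    obtain ⟨rfl, rfl⟩ := h
    exact hc
  | cons e L ih =>
    obtain ⟨s, A⟩ := e
    intro φ hG
    simp only [runForced] at h
    cases hnode : nodeOK n t k I M s [A] m K with
    | false => rw [hnode] at h; simp at h
    | true =>
      rw [hnode] at h
      obtain ⟨A₀, hA₀, φ', -, hG'⟩ := node_step hα hn hB hI hM hG hnode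
      have : A₀ = A := by simpa using hA₀
      subst this
      simp only [forceNat_eq] at h
      exact ih h φ' hG'

/-- Soundness of the checker. -/
theorem chk_sound (hα : Fintype.card α = n) (hn : n ≤ 24) (hB : Cfsg.IsSteinerSystem t k B)
    (hI : ∀ b ∈ B, ∀ c ∈ B, b ≠ c → allowedB I (b ∩ c).card = true) (hM : ∀ x, allowedB I x = true → x ≤ M)
    (hleaf : ∀ φ, Good B φ n Ref → C) (tr : Tree) :
    ∀ m K, chk n t k I M Ref tr m K = true →
      (isNode tr = true → ∀ φ, Good B φ m K → C) ∧
      (∀ A ∈ keys tr, ∀ φ, Good B φ (m + Nat.sub k (pc A)) (mkBlock A (Nat.sub k (pc A)) m :: K) → C) := by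
  induction tr with
  | leaf =>
    intro m K h
    refine ⟨fun _ φ hG => ?_, fun A hA => by simp [keys] at hA⟩
    simp only [chk, Bool.and_eq_true] at h
    have h1 : m = n := Nat.eq_of_beq_eq_true h.1
    have h2 : K = Ref := listEq_eq h.2
    subst h1 h2
    exact hleaf φ hG
  | newpt tr ih =>
    intro m K h
    refine ⟨fun _ φ hG => ?_, fun A hA => by simp [keys] at hA⟩
    simp only [chk, Bool.and_eq_true, forceNat_eq] at h
    have h1 : m < n := Nat.blt_eq.mp h.1.1
    obtain ⟨φ', hG'⟩ := new_step hα hn hG h1
    exact (ih _ _ h.2).1 h.1.2 φ' hG'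
  | forced steps tr ih =>
    intro m K h
    refine ⟨fun _ φ hG => ?_, fun A hA => by simp [keys] at hA⟩
    simp only [chk] at h
    cases hr : runForced n t k I M steps m K with
    | none => rw [hr] at h; simp at h
    | some p =>
      obtain ⟨m', K'⟩ := p
      rw [hr] at h
      simp only [Bool.and_eq_true] at h
      exact runForced_sound hα hn hB hI hM hr (fun φ' hG' => (ih _ _ h.2).1 h.1 φ' hG') φ hG
  | pick s sym ch ih =>
    intro m K h
    refine ⟨fun _ φ hG => ?_, fun A hA => by simp [keys] at hA⟩
    simp only [chk, Bool.and_eq_true] at h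
    obtain ⟨⟨h1, h2⟩, h3⟩ := h
    have hch := (ih _ _ h3).2
    obtain ⟨A, hA, φ', -, hG'⟩ := node_step hα hn hB hI hM hG h1
    rcases List.mem_append.mp hA with hA | hA
    · exact hch A hA φ' hG'
    · obtain ⟨e, he, rfl⟩ := List.mem_map.mp hA
      obtain ⟨A', A₁, τ⟩ := e
      have hs := List.all_eq_true.mp h2 _ he
      simp only [symOK, Bool.and_eq_true] at hs
      obtain ⟨⟨⟨⟨⟨hs1, hs2⟩, hs3⟩, hs4⟩, hs5⟩, hs6⟩ := hs
      have hm := hG'.le
      have hpc : pc A₁ = pc A' := Nat.eq_of_beq_eq_true hs3
      obtain ⟨φ'', hG''⟩ := sym_good (m := m) (r := Nat.sub k (pc A')) (A₁ := A₁) (τ := τ) hm hG' hG.bits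
        (Nat.blt_eq.mp hs2) (Nat.eq_of_beq_eq_true hs4) (Nat.eq_of_beq_eq_true hs5)
        (fun b hb => memB_iff.mp (List.all_eq_true.mp hs6 b hb))
      rw [← hpc] at hG''
      exact hch A₁ (memB_iff.mp hs1) φ'' hG''
  | nil =>
    intro m K _
    exact ⟨fun h => by simp [isNode] at h, fun A hA => by simp [keys] at hA⟩
  | cons A tr rest ih1 ih2 =>
    intro m K h
    simp only [chk, Bool.and_eq_true, forceNat_eq] at h
    refine ⟨fun h' => by simp [isNode] at h', fun A' hA' φ hG => ?_⟩
    rcases List.mem_cons.mp hA' with rfl | hA'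
    · exact (ih1 _ _ h.1.2).1 h.1.1 φ hG
    · exact (ih2 _ _ h.2).2 A' hA' φ hG

/-- The start of the search. -/
theorem of_chk (hα : Fintype.card α = n) (hn : n ≤ 24) (hn0 : 0 < n) (hB : Cfsg.IsSteinerSystem t k B)
    (hI : ∀ b ∈ B, ∀ c ∈ B, b ≠ c → allowedB I (b ∩ c).card = true) (hM : ∀ x, allowedB I x = true → x ≤ M)
    (hleaf : ∀ φ, Good B φ n Ref → C) {tr : Tree} (hnode : isNode tr = true)
    (h : chk n t k I M Ref tr 0 [] = true) : C := by
  have hne : Nonempty α := by
    apply Fintype.card_pos_iff.mp
    omega
  obtain ⟨a⟩ := hne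
  refine (chk_sound hα hn hB hI hM hleaf tr 0 [] h).1 hnode (fun _ => a) ⟨by omega, ?_, ?_, ?_⟩
  · intro i hi
    exact absurd hi (by simp)
  · intro x hx
    simp at hx
  · intro x hx
    simp at hx

end Sound

/-! ### The final statement -/

section Final

variable {α : Type*} [DecidableEq α] [Fintype α] {n t k I M : ℕ} {B : Set (Finset α)} {Ref : List ℕ}

theorem allowed_le {I M : ℕ} (h : I < 2 ^ (M + 1)) : ∀ x, allowedB I x = true → x ≤ M := by
  intro x hx
  by_contra hcon
  have h1 : I < 2 ^ x := lt_of_lt_of_le h (Nat.pow_le_pow_right (by norm_num) (by omega))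
  rw [allowedB, tb_eq, Nat.testBit_lt_two_pow h1] at hx
  exact absurd hx (by simp)

/-- The conclusion of the search: the labelling identifies the system with the list of masks. -/
def Concl (B : Set (Finset α)) (n : ℕ) (Ref : List ℕ) : Prop :=
  ∃ φ : ℕ → α, Set.InjOn φ (Set.Iio n) ∧ (∀ x ∈ Ref, bitsOf x ⊆ Finset.range n) ∧ B = blk φ '' {x | x ∈ Ref}

theorem eq_of_bits {x y : ℕ} (hx : x < 2 ^ 24) (hy : y < 2 ^ 24) (h : bitsOf x = bitsOf y) : x = y := by
  apply Nat.eq_of_testBit_eq
  intro j
  by_cases hj : j < 24
  · have h1 : j ∈ bitsOf x ↔ j ∈ bitsOf y := by rw [h]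
    rw [mem_bitsOf, mem_bitsOf] at h1
    cases hx' : x.testBit j <;> cases hy' : y.testBit j <;> simp_all
  · have h1 : 2 ^ 24 ≤ 2 ^ j := Nat.pow_le_pow_right (by norm_num) (by omega)
    rw [Nat.testBit_lt_two_pow (lt_of_lt_of_le hx h1), Nat.testBit_lt_two_pow (lt_of_lt_of_le hy h1)]

theorem leaf_concl (hα : Fintype.card α = n) (hB : Cfsg.IsSteinerSystem t k B) (hpos : 0 < Nat.choose k t)
    (hcard : Ref.length * Nat.choose k t = Nat.choose n t) (hnd : Ref.Nodup) (hlt : ∀ x ∈ Ref, x < 2 ^ 24) :
    ∀ φ, Good B φ n Ref → Concl B n Ref := by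
  classical
  intro φ hG
  refine ⟨φ, hG.inj, hG.bits, ?_⟩
  symm
  apply Set.eq_of_subset_of_ncard_le
  · rintro _ ⟨x, hx, rfl⟩
    exact hG.mem x hx
  · have h1 := Cfsg.Agent.S0350.result hB
    rw [hα, ← hcard] at h1
    have h2 : B.ncard = Ref.length := Nat.eq_of_mul_eq_mul_right hpos h1
    rw [h2, Set.ncard_image_of_injOn]
    · have : {x | x ∈ Ref} = (↑Ref.toFinset : Set ℕ) := by
        ext x
        simp
      rw [this, Set.ncard_coe_finset, List.toFinset_card_of_nodup hnd]
    · intro x hx y hy he
      apply eq_of_bits (hlt x hx) (hlt y hy)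
      ext j
      have hxb := hG.bits x hx
      have hyb := hG.bits y hy
      constructor
      · intro hj
        have hjn := Finset.mem_range.mp (hxb hj)
        have : φ j ∈ blk φ y := by
          rw [← he]
          exact Finset.mem_image_of_mem _ hj
        exact (mem_blk_iff hG.inj hyb hjn).mp this
      · intro hj
        have hjn := Finset.mem_range.mp (hyb hj)
        have : φ j ∈ blk φ x := by
          rw [he]
          exact Finset.mem_image_of_mem _ hj
        exact (mem_blk_iff hG.inj hxb hjn).mp this
  · exact Set.toFinite _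

/-- The system is determined by the masks. -/
theorem concl_of_chk (hα : Fintype.card α = n) (hn : n ≤ 24) (hn0 : 0 < n) (hB : Cfsg.IsSteinerSystem t k B)
    (hI : ∀ b ∈ B, ∀ c ∈ B, b ≠ c → allowedB I (b ∩ c).card = true) (hM : ∀ x, allowedB I x = true → x ≤ M)
    (hpos : 0 < Nat.choose k t) (hcard : Ref.length * Nat.choose k t = Nat.choose n t) (hnd : Ref.Nodup)
    (hlt : ∀ x ∈ Ref, x < 2 ^ 24) {tr : Tree} (hnode : isNode tr = true)
    (h : chk n t k I M Ref tr 0 [] = true) : Concl B n Ref :=
  of_chk hα hn hn0 hB hI hM (leaf_concl hα hB hpos hcard hnd hlt) hnode h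

/-- Isomorphism of two systems with the same masks. -/
theorem iso_of_concl {β : Type*} [DecidableEq β] [Fintype β] {B' : Set (Finset β)}
    (hα : Fintype.card α = n) (hβ : Fintype.card β = n)
    (h : Concl B n Ref) (h' : Concl B' n Ref) : Cfsg.SetSystemIso B B' := by
  classical
  obtain ⟨φ, hφ, hbits, rfl⟩ := h
  obtain ⟨ψ, hψ, -, rfl⟩ := h'
  have hf : Function.Bijective (fun i : Fin n => φ i) := by
    rw [Fintype.bijective_iff_injective_and_card]
    refine ⟨fun a b he => Fin.ext (hφ a.2 b.2 he), by simp [hα]⟩
  have hg : Function.Bijective (fun i : Fin n => ψ i) := by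
    rw [Fintype.bijective_iff_injective_and_card]
    refine ⟨fun a b he => Fin.ext (hψ a.2 b.2 he), by simp [hβ]⟩
  let e₁ : Fin n ≃ α := Equiv.ofBijective _ hf
  let e₂ : Fin n ≃ β := Equiv.ofBijective _ hg
  refine ⟨e₁.symm.trans e₂, ?_⟩
  have key : ∀ i, (hi : i < n) → (e₁.symm.trans e₂) (φ i) = ψ i := by
    intro i hi
    have : e₁ ⟨i, hi⟩ = φ i := rfl
    rw [Equiv.trans_apply, ← this, Equiv.symm_apply_apply]
    rfl
  have hblk : ∀ x ∈ Ref, (blk φ x).image (e₁.symm.trans e₂) = blk ψ x := by
    intro x hx
    unfold blk
    rw [Finset.image_image]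
    apply Finset.image_congr
    intro i hi
    exact key i (Finset.mem_range.mp (hbits x hx hi))
  rw [Set.image_image]
  apply Set.image_congr
  intro x hx
  exact hblk x hx

end Final

end Cfsg.Agent.Lib.BasicSteiner.Search
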